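import Cfsg.Agent.H0.MultM
import Cfsg.Agent.H0.MM11.D
set_option maxRecDepth 100000
set_option Elab.async false
namespace H0.QM11
open H0 BN 
noncomputable def n15 : Net := (Net.cons (nat_lit 8) (nat_lit 0xf0) (Net.cons (nat_lit 4) (nat_lit 0x200) (Net.cons (nat_lit 2) (nat_lit 0x3100) (Net.cons (nat_lit 1) (nat_lit 0x4104) (Net.cons (nat_lit 8) (nat_lit 0xf2) Net.nil)))))
noncomputable def n16 : Net := (Net.cons (nat_lit 8) (nat_lit 0xa0) (Net.cons (nat_lit 4) (nat_lit 0xa0c) (Net.cons (nat_lit 2) (nat_lit 0x202) (Net.cons (nat_lit 1) (nat_lit 0x144) (Net.cons (nat_lit 2) (nat_lit 0x202) (Net.cons (nat_lit 4) (nat_lit 0x80c) (Net.cons (nat_lit 8) (nat_lit 0xa0) Net.nil)))))))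
noncomputable def n17 : Net := (Net.cons (nat_lit 8) (nat_lit 0xc6) (Net.cons (nat_lit 4) (nat_lit 0xc00) (Net.cons (nat_lit 2) (nat_lit 0x102) (Net.cons (nat_lit 1) (nat_lit 0x514) (Net.cons (nat_lit 2) (nat_lit 0x2) (Net.cons (nat_lit 4) (nat_lit 0xc02) (Net.cons (nat_lit 8) (nat_lit 0xc6) Net.nil)))))))
noncomputable def n18 : Net := (Net.cons (nat_lit 8) (nat_lit 0x70) (Net.cons (nat_lit 4) (nat_lit 0x708) (Net.cons (nat_lit 2) (nat_lit 0x1102) (Net.cons (nat_lit 4) (nat_lit 0x8) (Net.cons (nat_lit 8) (nat_lit 0x70) Net.nil)))))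
noncomputable def n19 : Net := (Net.cons (nat_lit 8) (nat_lit 0x98) (Net.cons (nat_lit 4) (nat_lit 0x204) (Net.cons (nat_lit 2) (nat_lit 0x320) (Net.cons (nat_lit 1) (nat_lit 0x1140) (Net.cons (nat_lit 2) (nat_lit 0x2220) (Net.cons (nat_lit 4) (nat_lit 0x200) (Net.cons (nat_lit 8) (nat_lit 0x98) Net.nil)))))))
noncomputable def n20 : Net := (Net.cons (nat_lit 8) (nat_lit 0xc4) (Net.cons (nat_lit 4) (nat_lit 0xe08) (Net.cons (nat_lit 2) (nat_lit 0x2300) (Net.cons (nat_lit 1) (nat_lit 0x4110) (Net.cons (nat_lit 2) (nat_lit 0x2220) (Net.cons (nat_lit 4) (nat_lit 0xe08) (Net.cons (nat_lit 8) (nat_lit 0xc0) Net.nil)))))))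
noncomputable def n21 : Net := (Net.cons (nat_lit 8) (nat_lit 0xfc) (Net.cons (nat_lit 4) (nat_lit 0xf00) (Net.cons (nat_lit 2) (nat_lit 0x3100) (Net.cons (nat_lit 1) (nat_lit 0x1101) (Net.cons (nat_lit 8) (nat_lit 0xfc) Net.nil)))))
noncomputable def nl2 : List Net := [n15, n16, n17, n18, n19, n20, n21]
theorem nl2_ok : allL (Net.ok (nat_lit 16)) nl2 = true := by decide +kernel
noncomputable def nl : List Net := [H0.MM11.n0, H0.MM11.n1, H0.MM11.n2, H0.MM11.n3, H0.MM11.n4, H0.MM11.n5, H0.MM11.n6, H0.MM11.n7, H0.MM11.n8, H0.MM11.n9, H0.MM11.n10, H0.MM11.n11, H0.MM11.n12, H0.MM11.n13, H0.MM11.n14, n15, n16, n17, n18, n19, n20, n21]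
theorem nl_ok : allL (Net.ok (nat_lit 16)) nl = true := allL_append H0.MM11.nl_ok nl2_ok
noncomputable def R : Rep := mkRep (nat_lit 4) (nat_lit 16) nl (by decide +kernel) nl_ok
def defs : List (List ℕ) := [[4, 6, 8, 12, 10, 10], [4, 4, 4, 3, 8, 6, 12, 10], [4, 4, 4, 3, 6, 8, 8, 10], [4, 3, 8, 6, 12, 10], [6, 8, 10], [8, 8, 10, 10], [0, 8, 10, 10]]
def ch2 : List Model.Lev := [(1, [[15], [16], [17]], 8), (2, [[16, 17]], 2)]
noncomputable def tL2 : TC.WTr := (.node (.node (.node (.node (.leaf [0, 0] 0 0 false) (.leaf [3, 2] 0 0 false)) (.leaf [2, 1] 0 0 false)) (.node (.leaf [1, 1] 0 0 false) (.leaf [3, 0] 0 0 false))) (.node (.node (.node (.leaf [1, 0] 0 0 false) (.leaf [3, 3] 0 0 false)) (.leaf [2, 2] 0 0 false)) (.node (.leaf [2, 0] 0 0 false) (.leaf [3, 1] 0 0 false))))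
noncomputable def tR2 : TC.WTr := (.node (.node (.node (.node (.leaf [2, 3] 0 0 false) (.leaf [2, 3] 0 0 false)) (.leaf [1, 2, 3] 0 0 false)) (.node (.leaf [] 0 0 false) (.leaf [0, 3] 0 0 false))) (.node (.node (.node (.leaf [0, 1, 2] 0 0 false) (.leaf [] 0 0 false)) (.leaf [3] 0 0 false)) (.node (.leaf [0, 2] 0 0 false) (.leaf [1, 3] 0 0 false))))
noncomputable def C2 : Tail.Cfg := ⟨nat_lit 2, nat_lit 1, nat_lit 4, nat_lit 10, nat_lit 14, tL2.get, tR2.get⟩
noncomputable def tests2 : List (List ℕ × ℕ × Bool × ℕ) := [([3], 6, false, (nat_lit 0x100000000006000000000000000000000)), ([3], 7, false, (nat_lit 0x100000018000000000000000000000000)), ([3], 8, false, (nat_lit 0x100060000000000000000000000000000)), ([2], 5, false, (nat_lit 0x10000000001000000000000000000)), ([2], 3, false, (nat_lit 0x1001000000180000000000)), ([0], 0, false, (nat_lit 0x1000000000040000000004)), ([2], 2, false, (nat_lit 0x40000004000000000200000040000000)),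 ([1], 1, false, (nat_lit 0xc0030000000000c00300000040018000)), ([1], 0, false, (nat_lit 0x40010004000000400100040000008004))]
noncomputable def rows2 : List (ℕ × List (ℕ × ℕ) × ℕ) := [(0, [(1, 1)], (nat_lit 0x0)), (1, [(3, 1)], (nat_lit 0x0)), (2, [(2, 1)], (nat_lit 0x0)), (3, [], (nat_lit 0xd00)), (4, [(0, 1), (3, 2)], (nat_lit 0x31d40)), (5, [(0, 1)], (nat_lit 0x0)), (6, [], (nat_lit 0xb00)), (7, [], (nat_lit 0x14700)), (8, [], (nat_lit 0x40)), (9, [(0, 2)], (nat_lit 0x1f780))]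
noncomputable def YS2 : List (List (ℕ × ℕ) × ℕ × ℕ) := []
def FS2 : List (List (ℕ × ℕ)) := [[(5, 1)], [(0, 1)], [(2, 1)], [(1, 1)]]
def av2 (x s : ℕ) : ℕ := ([[3, 1, 0, 1], [0, 0, 1, 0], [0, 0, 0, 2], [2, 0, 0, 0]].getD x []).getD s 0
def ch3 : List Model.Lev := [(2, [[19], [20]], 9)]
noncomputable def tL3 : TC.WTr := (.node (.node (.node (.leaf [0, 0, 0] 0 0 false) (.leaf [2, 1] 0 0 false)) (.leaf [1, 1, 1] 0 0 false)) (.node (.leaf [1, 0] 0 0 false) (.leaf [2, 0] 0 0 false)))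
noncomputable def tR3 : TC.WTr := (.node (.node (.node (.leaf [] 0 0 false) (.leaf [0, 1, 1, 2] 0 0 false)) (.leaf [] 0 0 false)) (.node (.leaf [0, 1] 0 0 false) (.leaf [0, 0, 1, 1, 2] 0 0 false)))
noncomputable def C3 : Tail.Cfg := ⟨nat_lit 3, nat_lit 2, nat_lit 2, nat_lit 5, nat_lit 16, tL3.get, tR3.get⟩
noncomputable def tests3 : List (List ℕ × ℕ × Bool × ℕ) := [([1], 0, false, (nat_lit 0x30009)), ([4, 4, 4], 2, true, (nat_lit 0x180000001100180008)), ([3, 3, 3], 2, true, (nat_lit 0x18001000300011)), ([3, 3, 4, 3, 4, 4], 2, true, (nat_lit 0x180018002100410019))]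
noncomputable def rows3 : List (ℕ × List (ℕ × ℕ) × ℕ) := [(0, [(0, 1)], (nat_lit 0x0)), (1, [], (nat_lit 0x5440)), (2, [(1, 1)], (nat_lit 0x0))]
noncomputable def YS3 : List (List (ℕ × ℕ) × ℕ × ℕ) := []
def FS3 : List (List (ℕ × ℕ)) := [[(0, 1)], [(2, 1)]]
def av3 (x s : ℕ) : ℕ := ([[1, 0], [0, 1]].getD x []).getD s 0
theorem c0 : Model.fixP R [1] [[16, 17]] = true := by decide +kernel
theorem c1 : Model.growP R [[16, 17]] [0] 2 2 = true := by decide +kernel
theorem c2 : Model.fixP R [] [[15], [16], [17]] = true := by decide +kernel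
theorem c3 : Model.growP R [[15], [16], [17]] [0, 1, 2, 0] 1 8 = true := by decide +kernel
theorem c4 : rulesB R [3, 2, 1, 0] (fun i => sh 15 (C2.L i)) (fun i => sh 15 (C2.R i)) 0 10 = true := by decide +kernel
theorem c5 : allL (Tail.chkT C2 (nat_lit 23) (nat_lit 3)) ((tests2.drop 0).take 9) = true := by decide +kernel
theorem c6 : allL (Tail.rowChk C2 (nat_lit 23) (nat_lit 3) (nat_lit 2) (tests2.map fun T => T.2.2.2) (FS2 ++ YS2.map fun Y => Y.1)) ((rows2.drop 0).take 10) = true := by decide +kernel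
theorem c7 : Tail.finChk C2 (nat_lit 23) (nat_lit 3) (nat_lit 2) (nat_lit 2) (C2.p ^ 1) av2 (tests2.map fun T => T.2.2.2) FS2 YS2 rows2 = true := by decide +kernel
theorem c8 : Model.fixP R [] [[19], [20]] = true := by decide +kernel
theorem c9 : Model.growP R [[19], [20]] [0, 1, 0, 1] 2 9 = true := by decide +kernel
theorem c10 : rulesB R [3, 2, 1, 0] (fun i => sh 19 (C3.L i)) (fun i => sh 19 (C3.R i)) 0 5 = true := by decide +kernel
theorem c11 : allL (Tail.chkT C3 (nat_lit 39) (nat_lit 8)) ((tests3.drop 0).take 4) = true := by decide +kernel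
theorem c12 : allL (Tail.rowChk C3 (nat_lit 39) (nat_lit 8) (nat_lit 4) (tests3.map fun T => T.2.2.2) (FS3 ++ YS3.map fun Y => Y.1)) ((rows3.drop 0).take 3) = true := by decide +kernel
theorem c13 : Tail.finChk C3 (nat_lit 39) (nat_lit 8) (nat_lit 4) (nat_lit 3) (C3.p ^ 1) av3 (tests3.map fun T => T.2.2.2) FS3 YS3 rows3 = true := by decide +kernel
theorem c14 : defsChk R defs 15 = true := by decide +kernel
end H0.QM11
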